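import Cfsg.Agent.H392.FFourTwo.Degree
import Cfsg.Agent.OddHalf.D6.QThree.G23Out

/-!
# HUB H1: a 2-transitive group with socle `G₂(3)` and degree divisible by 3 has degree 9, 27 or 729 (helper392)
-/

set_option autoImplicit false

open MulAction

namespace Cfsg.Agent.H392.GTwoDeg

open Cfsg.Agent.H384.TwoTrans Cfsg.Agent.H392.FFourTwo

universe u v

theorem card_G : Nat.card ↥(Cfsg.Lie.chevG2.group (ZMod 3)) = 2 ^ 6 * (3 ^ 6 * (7 * 13)) := by
  have h : Nat.card ↥(Cfsg.Lie.chevG2.group (ZMod 3)) = 2 ^ 6 * 66339 := OddHalf.D6.QThree.G23Out.words2.card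
  rw [h]
  norm_num

theorem card_out : Nat.card (Cfsg.Out ↥(Cfsg.Lie.chevG2.group (ZMod 3))) ∣ 2 :=
  OddHalf.D6.QThree.G23Out.out OddHalf.D6.QThree.G23Out.words2

def chk1 (m : ℕ) : Bool := decide ((2 ^ 6 * (3 ^ 6 * (7 * 13))) % (m + 1) ≠ 0) || decide ((m + 1) % 3 ≠ 0) ||
    decide (m + 1 = 3) || decide (m + 1 = 9) || decide (m + 1 = 27) || decide (m + 1 = 729)

theorem arith_tab : ((List.range 8).all fun a => (List.range 2).all fun b => (List.range 2).all fun c =>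
      chk1 (2 ^ a * (7 ^ b * 13 ^ c))) = true := by
  decide +kernel

theorem arith {n : ℕ} (h3 : 3 ∣ n) (h0 : 5 ≤ n) (h : n ∣ 2 ^ 6 * (3 ^ 6 * (7 * 13)))
    (h' : n - 1 ∣ 2 ^ 7 * (3 ^ 6 * (7 * 13))) : ∃ a, n = 3 ^ a := by
  have hc : Nat.Coprime (n - 1) (3 ^ 6) := by
    apply Nat.Coprime.pow_right
    rw [Nat.coprime_comm, Nat.Prime.coprime_iff_not_dvd Nat.prime_three]
    intro h4
    have : 3 ∣ 1 := by
      have h5 := Nat.dvd_sub h3 h4
      rwa [show n - (n - 1) = 1 by omega] at h5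
    omega
  have h1 : n - 1 ∣ 2 ^ 7 * (7 * 13) := by
    apply hc.dvd_of_dvd_mul_left
    rwa [show 3 ^ 6 * (2 ^ 7 * (7 * 13)) = 2 ^ 7 * (3 ^ 6 * (7 * 13)) by ring]
  obtain ⟨a, d1, ha, h2', e1⟩ := dvd_split Nat.prime_two h1
  have h2'' : d1 ∣ 7 ^ 1 * 13 := h2'
  obtain ⟨b, d2, hb, h3', e2⟩ := dvd_split (by norm_num : Nat.Prime 7) h2''
  obtain ⟨c, hc, e3⟩ : ∃ c < 2, d2 = 13 ^ c := by
    rcases (Nat.dvd_prime (by norm_num : Nat.Prime 13)).1 h3' with h6 | h6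
    · exact ⟨0, by norm_num, by rw [h6, pow_zero]⟩
    · exact ⟨1, by norm_num, by rw [h6, pow_one]⟩
  have hn : n = 2 ^ a * (7 ^ b * 13 ^ c) + 1 := by
    rw [← e3, ← e2, ← e1]; omega
  have t1 := arith_tab
  rw [List.all_eq_true] at t1
  have t2 := t1 a (List.mem_range.2 ha)
  rw [List.all_eq_true] at t2
  have t3 := t2 b (List.mem_range.2 hb)
  rw [List.all_eq_true] at t3
  have t4 := t3 c (List.mem_range.2 hc)
  unfold chk1 at t4
  rw [← hn] at t4
  simp only [Bool.or_eq_true, decide_eq_true_eq] at t4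
  rcases t4 with ((((t4 | t4) | t4) | t4) | t4) | t4
  · exact absurd (Nat.mod_eq_zero_of_dvd h) t4
  · exact absurd (Nat.mod_eq_zero_of_dvd h3) t4
  · omega
  · exact ⟨2, by rw [t4]; norm_num⟩
  · exact ⟨3, by rw [t4]; norm_num⟩
  · exact ⟨6, by rw [t4]; norm_num⟩

variable {G : Type u} {Ω : Type v} [Group G] [MulAction G Ω] {T : Subgroup G}

theorem degree (A : AS G Ω T) {F : Type} [Field F] [Fintype F] (hF : Fintype.card F = 3)
    (e : ↥T ≃* ↥(Cfsg.Lie.chevG2.group F)) (h3 : 3 ∣ Nat.card Ω) : ∃ a, Nat.card Ω = 3 ^ a := by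
  have hF' : Fintype.card (ZMod 3) = Fintype.card F := by rw [hF]; rfl
  let φ : ZMod 3 ≃+* F := FiniteField.ringEquivOfCardEq hF'
  let e' : ↥T ≃* ↥(Cfsg.Lie.chevG2.group (ZMod 3)) := e.trans (ChevalleyStructure.FieldIso.groupEquiv Cfsg.Lie.chevG2 φ).symm
  have := A.finG
  have := A.finΩ
  have hT : Nat.card T = 2 ^ 6 * (3 ^ 6 * (7 * 13)) := by
    rw [Nat.card_congr e'.toEquiv, card_G]
  have h5 := A.five_le
  have hne : Nonempty Ω := by
    rw [← Finite.card_pos_iff]; omega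
  obtain ⟨a⟩ := hne
  refine arith h3 h5 ?_ ?_
  · rw [← hT]
    exact Dvd.intro _ (A.card_mul a)
  · have h1 := pred_dvd A
    rw [← T.index_mul_card, hT] at h1
    have h4 : T.index ∣ 2 := (A.index_dvd_out e').trans card_out
    have h5 := h1.trans (Nat.mul_dvd_mul_right h4 _)
    rwa [← mul_assoc, ← pow_succ'] at h5

end Cfsg.Agent.H392.GTwoDeg
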