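import Mathlib.GroupTheory.GroupAction.MultipleTransitivity
import Mathlib.GroupTheory.SpecificGroups.Alternating
import Mathlib.Data.Fintype.CardEmbedding
import Mathlib.Tactic.IntervalCases
import Cfsg.Agent.S4219
import Cfsg.Agent.S0748

/-!
# Multiply transitive groups: stabilisers of tuples, counting, half-transitivity

General lemmas about multiply transitive finite permutation groups (used for `(k+1/2)`-transitive
groups).
-/

set_option autoImplicit false

open MulAction

namespace Cfsg.Agent.H392.MultTrans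

section basic

variable {G Ω : Type*} [Group G] [MulAction G Ω]

/-- The pointwise stabiliser of a tuple is the stabiliser of the embedding. -/
theorem iInf_stab {k : ℕ} (s : Fin k ↪ Ω) : (⨅ i, stabilizer G (s i)) = stabilizer G s := by
  ext g
  simp only [Subgroup.mem_iInf, mem_stabilizer_iff]
  constructor
  · intro h
    ext i
    exact h i
  · intro h i
    have := congrArg (fun t : Fin k ↪ Ω => t i) h
    simpa using this

theorem mem_stab_emb {k : ℕ} (s : Fin k ↪ Ω) (g : G) :
    g ∈ stabilizer G s ↔ ∀ i, g • s i = s i := by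
  rw [← iInf_stab]
  simp [Subgroup.mem_iInf, mem_stabilizer_iff]

/-- `k`-transitivity: order formula. -/
theorem card_eq_descFactorial [Finite G] [Finite Ω] {k : ℕ} (h : IsMultiplyPretransitive G Ω k)
    (s : Fin k ↪ Ω) :
    Nat.card G = (Nat.card Ω).descFactorial k * Nat.card (stabilizer G s) := by
  classical
  have : Fintype Ω := Fintype.ofFinite Ω
  have : Fintype G := Fintype.ofFinite G
  have : IsPretransitive G (Fin k ↪ Ω) := h
  have h1 : (stabilizer G s).index = Nat.card (Fin k ↪ Ω) := by
    exact MulAction.index_stabilizer_of_transitive G s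
  have h2 := Subgroup.index_mul_card (stabilizer G s)
  rw [← h2, h1, Nat.card_eq_fintype_card (α := Fin k ↪ Ω), Fintype.card_embedding_eq,
    Fintype.card_fin, Nat.card_eq_fintype_card (α := Ω)]

/-- An element of the group carrying one tuple to another. -/
theorem exists_map {k : ℕ} (h : IsMultiplyPretransitive G Ω k) (s t : Fin k ↪ Ω) :
    ∃ g : G, ∀ i, g • s i = t i := by
  have : IsPretransitive G (Fin k ↪ Ω) := h
  obtain ⟨g, hg⟩ := exists_smul_eq G s t
  refine ⟨g, fun i => ?_⟩
  have := congrArg (fun t : Fin k ↪ Ω => t i) hg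
  simpa using this

/-- `k`-transitivity from the existence of carrying elements. -/
theorem of_exists_map {k : ℕ} (h : ∀ s t : Fin k ↪ Ω, ∃ g : G, ∀ i, g • s i = t i) :
    IsMultiplyPretransitive G Ω k := by
  refine ⟨fun s t => ?_⟩
  obtain ⟨g, hg⟩ := h s t
  refine ⟨g, ?_⟩
  ext i
  exact hg i

/-- the orbits of the stabiliser of a tuple do not meet the tuple. -/
theorem smul_notMem_range {k : ℕ} (s : Fin k ↪ Ω) {g : G} (hg : g ∈ stabilizer G s) {b : Ω}
    (hb : b ∉ Set.range s) : g • b ∉ Set.range s := by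
  rintro ⟨i, hi⟩
  apply hb
  refine ⟨i, ?_⟩
  have h1 := (mem_stab_emb s g).1 hg i
  rw [hi] at h1
  have h2 : g • b = g • s i := by rw [hi, h1]
  exact ((smul_left_cancel g h2)).symm

/-- If all orbits of the pointwise stabiliser of `s` outside `s` have the same size `r`, then
`r` divides `n - k`. -/
theorem orbit_dvd [Finite Ω] {k : ℕ} (s : Fin k ↪ Ω) {r : ℕ}
    (h : ∀ b, b ∉ Set.range s → Nat.card (orbit (stabilizer G s) b) = r) :
    r ∣ Nat.card Ω - k := by
  classical
  have : Fintype Ω := Fintype.ofFinite Ω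
  -- the action on the complement
  let C : SubMulAction (stabilizer G s) Ω :=
    { carrier := (Set.range s)ᶜ
      smul_mem' := fun g b hb => smul_notMem_range s g.2 hb }
  have hcard : Nat.card C = Nat.card Ω - k := by
    have h1 : Nat.card C = Nat.card ((Set.range s)ᶜ : Set Ω) := rfl
    rw [h1, Nat.card_eq_fintype_card, Fintype.card_compl_set, Nat.card_eq_fintype_card,
      Set.card_range_of_injective s.injective, Fintype.card_fin]
  rw [← hcard]
  have h2 : Nat.card C = ∑ ω : Quotient (orbitRel (stabilizer G s) C),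
      Nat.card (orbitRel.Quotient.orbit ω) := by
    rw [Nat.card_congr (MulAction.selfEquivSigmaOrbits' (stabilizer G s) C), Nat.card_sigma]
  rw [h2]
  apply Finset.dvd_sum
  intro ω _
  induction ω using Quotient.inductionOn with
  | h b =>
    rw [MulAction.orbitRel.Quotient.orbit_mk]
    have h3 : Nat.card (orbit (stabilizer G s) b) = Nat.card (orbit (stabilizer G s) (b : Ω)) := by
      have : (Subtype.val '' (orbit (stabilizer G s) b) : Set Ω) = orbit (stabilizer G s) (b : Ω) := by
        ext c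
        constructor
        · rintro ⟨c', ⟨g, hg⟩, rfl⟩
          exact ⟨g, by rw [← hg]; rfl⟩
        · rintro ⟨g, hg⟩
          exact ⟨g • b, ⟨g, rfl⟩, by rw [← hg]; rfl⟩
      rw [← this, Nat.card_image_of_injective Subtype.val_injective]
    rw [h3, h b b.2]

/-- If some point outside `s` ... : all orbits outside trivial implies trivial stabiliser. -/
theorem stab_eq_bot_of_card_orbit_one [FaithfulSMul G Ω] {k : ℕ} (s : Fin k ↪ Ω)
    (h : ∀ b, b ∉ Set.range s → Nat.card (orbit (stabilizer G s) b) = 1) :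
    stabilizer G s = ⊥ := by
  rw [eq_bot_iff]
  intro g hg
  rw [Subgroup.mem_bot]
  apply FaithfulSMul.eq_of_smul_eq_smul (α := Ω)
  intro b
  rw [one_smul]
  by_cases hb : b ∈ Set.range s
  · obtain ⟨i, rfl⟩ := hb
    exact (mem_stab_emb s g).1 hg i
  · have h1 := h b hb
    rw [Nat.card_eq_one_iff_unique] at h1
    have h2 : (⟨g • b, ⟨⟨g, hg⟩, rfl⟩⟩ : orbit (stabilizer G s) b) = ⟨b, mem_orbit_self b⟩ :=
      h1.1.elim _ _
    exact congrArg Subtype.val h2

/-- The orders of the stabilisers of `k`-tuples agree. -/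
theorem card_stab_eq [Finite G] [Finite Ω] {k : ℕ} (h : IsMultiplyPretransitive G Ω k)
    (s t : Fin k ↪ Ω) : Nat.card (stabilizer G s) = Nat.card (stabilizer G t) := by
  have h1 := card_eq_descFactorial h s
  have h2 := card_eq_descFactorial h t
  have h3 : 0 < (Nat.card Ω).descFactorial k := by
    rcases Nat.eq_zero_or_pos ((Nat.card Ω).descFactorial k) with h0 | h0
    · rw [h0, zero_mul] at h1
      exact absurd h1 Nat.card_pos.ne'
    · exact h0
  exact Nat.eq_of_mul_eq_mul_left h3 (h1.symm.trans h2)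

theorem stab_bot_all [Finite G] [Finite Ω] {k : ℕ} (h : IsMultiplyPretransitive G Ω k)
    (s : Fin k ↪ Ω) (hs : stabilizer G s = ⊥) (t : Fin k ↪ Ω) : stabilizer G t = ⊥ := by
  rw [← Subgroup.card_eq_one, ← card_stab_eq h s t, hs, Subgroup.card_bot]

/-- The set of points outside a `k`-tuple has `n - k` elements. -/
theorem card_compl_range [Finite Ω] {k : ℕ} (s : Fin k ↪ Ω) :
    Nat.card ((Set.range s)ᶜ : Set Ω) = Nat.card Ω - k := by
  classical
  have : Fintype Ω := Fintype.ofFinite Ω
  rw [Nat.card_eq_fintype_card, Fintype.card_compl_set, Nat.card_eq_fintype_card,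
      Set.card_range_of_injective s.injective, Fintype.card_fin]

theorem orbit_subset_compl {k : ℕ} (s : Fin k ↪ Ω) {b : Ω} (hb : b ∉ Set.range s) :
    orbit (stabilizer G s) b ⊆ ((Set.range s)ᶜ : Set Ω) := by
  rintro c ⟨g, rfl⟩
  exact smul_notMem_range s g.2 hb

/-- An orbit of full size is everything. -/
theorem orbit_eq_compl [Finite Ω] {k : ℕ} (s : Fin k ↪ Ω) {b : Ω} (hb : b ∉ Set.range s)
    (h : Nat.card (orbit (stabilizer G s) b) = Nat.card Ω - k) :
    orbit (stabilizer G s) b = ((Set.range s)ᶜ : Set Ω) := by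
  apply Set.eq_of_subset_of_ncard_le (orbit_subset_compl s hb)
  rw [← Nat.card_coe_set_eq, ← Nat.card_coe_set_eq, h, card_compl_range]

/-- The first `k` entries of a `k+1`-tuple. -/
def initE {k : ℕ} (x : Fin (k + 1) ↪ Ω) : Fin k ↪ Ω := Fin.castSuccEmb.trans x

theorem initE_apply {k : ℕ} (x : Fin (k + 1) ↪ Ω) (i : Fin k) : initE x i = x i.castSucc := rfl

theorem last_notMem {k : ℕ} (x : Fin (k + 1) ↪ Ω) : x (Fin.last k) ∉ Set.range (initE x) := by
  rintro ⟨i, hi⟩
  rw [initE_apply] at hi
  exact absurd (x.injective hi) (Fin.castSucc_lt_last i).ne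

/-- `k`-transitive and one stabiliser transitive outside implies `k+1`-transitive. -/
theorem succ_of_transitive {k : ℕ} (h : IsMultiplyPretransitive G Ω k) (s : Fin k ↪ Ω)
    (hs : ∀ b c, b ∉ Set.range s → c ∉ Set.range s → ∃ g ∈ stabilizer G s, g • b = c) :
    IsMultiplyPretransitive G Ω (k + 1) := by
  apply of_exists_map
  intro x y
  obtain ⟨g, hg⟩ := exists_map h (initE x) s
  obtain ⟨g', hg'⟩ := exists_map h (initE y) s
  have hx : g • x (Fin.last k) ∉ Set.range s := by
    rintro ⟨i, hi⟩
    rw [← hg i] at hi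
    exact last_notMem x ⟨i, smul_left_cancel g hi⟩
  have hy : g' • y (Fin.last k) ∉ Set.range s := by
    rintro ⟨i, hi⟩
    rw [← hg' i] at hi
    exact last_notMem y ⟨i, smul_left_cancel g' hi⟩
  obtain ⟨t, ht, htx⟩ := hs _ _ hx hy
  refine ⟨g'⁻¹ * t * g, fun i => ?_⟩
  rw [mul_smul, mul_smul, inv_smul_eq_iff]
  induction i using Fin.lastCases with
  | last => exact htx
  | cast i =>
    have h1 := hg i
    have h2 := hg' i
    rw [initE_apply] at h1 h2
    rw [h1, h2]
    exact (mem_stab_emb s t).1 ht i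

/-- The half-transitivity dichotomy. -/
theorem succ_of_orbit_full [Finite Ω] {k : ℕ} (h : IsMultiplyPretransitive G Ω k) (s : Fin k ↪ Ω)
    {b : Ω} (hb : b ∉ Set.range s)
    (hr : Nat.card (orbit (stabilizer G s) b) = Nat.card Ω - k) :
    IsMultiplyPretransitive G Ω (k + 1) := by
  have h1 := orbit_eq_compl s hb hr
  apply succ_of_transitive h s
  intro x y hx hy
  have hx' : x ∈ orbit (stabilizer G s) b := by rw [h1]; exact hx
  have hy' : y ∈ orbit (stabilizer G s) b := by rw [h1]; exact hy
  obtain ⟨g, rfl⟩ := hx'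
  obtain ⟨g', rfl⟩ := hy'
  refine ⟨g' * g⁻¹, ?_, ?_⟩
  · exact mul_mem g'.2 (inv_mem g.2)
  · show ((g' : G) * (g : G)⁻¹) • ((g : G) • b) = (g' : G) • b
    rw [mul_smul, inv_smul_smul]

/-- The full symmetric group is `m`-transitive for all `m`. -/
theorem of_range_top {m : ℕ} (h : (toPermHom G Ω).range = ⊤) :
    IsMultiplyPretransitive G Ω m := by
  apply of_exists_map
  intro s t
  have hp : IsMultiplyPretransitive (Equiv.Perm Ω) Ω m := Equiv.Perm.isMultiplyPretransitive Ω m
  obtain ⟨σ, hσ⟩ := exists_map hp s t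
  have : σ ∈ (toPermHom G Ω).range := by rw [h]; trivial
  obtain ⟨g, rfl⟩ := this
  exact ⟨g, hσ⟩

/-- The alternating group is `m`-transitive for all `m + 2 ≤ n`. -/
theorem of_range_alt [Fintype Ω] [DecidableEq Ω] {m : ℕ} (hm : m + 2 ≤ Nat.card Ω)
    (h : (toPermHom G Ω).range = alternatingGroup Ω) :
    IsMultiplyPretransitive G Ω m := by
  have hp : IsMultiplyPretransitive (alternatingGroup Ω) Ω (Nat.card Ω - 2) :=
    alternatingGroup.isMultiplyPretransitive Ω
  have hp' : IsMultiplyPretransitive (alternatingGroup Ω) Ω m :=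
    isMultiplyPretransitive_of_le (G := alternatingGroup Ω) (α := Ω) (n := Nat.card Ω - 2) (by omega)
      (by simp)
  apply of_exists_map
  intro s t
  obtain ⟨σ, hσ⟩ := exists_map hp' s t
  have : (σ : Equiv.Perm Ω) ∈ (toPermHom G Ω).range := by rw [h]; exact σ.2
  obtain ⟨g, hg⟩ := this
  refine ⟨g, fun i => ?_⟩
  have h2 := hσ i
  show (toPermHom G Ω g) (s i) = t i
  rw [hg]
  exact h2

/-- The stabiliser of an `(n-2)`-tuple in a group of even permutations is trivial. -/
theorem stab_bot_of_alt [Fintype Ω] [DecidableEq Ω] [FaithfulSMul G Ω] {k : ℕ}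
    (h : (toPermHom G Ω).range = alternatingGroup Ω) (hk : Nat.card Ω ≤ k + 2) (s : Fin k ↪ Ω) :
    stabilizer G s = ⊥ := by
  rw [eq_bot_iff]
  intro g hg
  rw [Subgroup.mem_bot]
  set σ := toPermHom G Ω g with hσ
  have h1 : σ ∈ alternatingGroup Ω := by rw [← h]; exact ⟨g, rfl⟩
  have h2 : σ.support.card ≤ 2 := by
    have h3 : σ.support ⊆ (Finset.univ.map s)ᶜ := by
      intro x hx
      rw [Finset.mem_compl, Finset.mem_map]
      rintro ⟨i, -, rfl⟩
      rw [Equiv.Perm.mem_support] at hx
      exact hx ((mem_stab_emb s g).1 hg i)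
    have h4 := Finset.card_le_card h3
    rw [Finset.card_compl, Finset.card_map, Finset.card_univ, Fintype.card_fin] at h4
    rw [Nat.card_eq_fintype_card] at hk
    omega
  have h3 : σ = 1 := by
    by_contra hne
    have h5 : 2 ≤ σ.support.card := Equiv.Perm.two_le_card_support_of_ne_one hne
    have h6 : σ.support.card = 2 := le_antisymm h2 h5
    rw [Equiv.Perm.card_support_eq_two] at h6
    have h7 := h6.sign_eq
    rw [Equiv.Perm.mem_alternatingGroup] at h1
    rw [h1] at h7
    exact absurd h7 (by decide)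
  apply FaithfulSMul.eq_of_smul_eq_smul (α := Ω)
  intro b
  rw [one_smul]
  have := congrArg (fun τ : Equiv.Perm Ω => τ b) h3
  simpa [hσ] using this

/-- Jordan–Witt: if `P` is a Sylow subgroup of the stabiliser of a `k`-tuple of a `k`-transitive
group with fixed point set of size `f`, then `f.descFactorial k * |P|` divides `|G|`. -/
theorem witt_card [Finite G] [Finite Ω] {k : ℕ} (h : IsMultiplyPretransitive G Ω k)
    (s : Fin k ↪ Ω) {p : ℕ} [Fact p.Prime] (P : Subgroup G) (hP : P ≤ stabilizer G s)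
    (hcard : Nat.card P = p ^ (Nat.card (stabilizer G s)).factorization p) :
    (Nat.card (fixedPoints P Ω)).descFactorial k * Nat.card P ∣ Nat.card G := by
  classical
  have : IsPretransitive G (Fin k ↪ Ω) := h
  -- the normaliser acts on the fixed points
  let N := Subgroup.normalizer (P : Set G)
  let F : SubMulAction N Ω :=
    { carrier := fixedPoints P Ω
      smul_mem' := by
        intro g b hb x
        have h1 : (g : G)⁻¹ * x * g ∈ P := by
          have := (Subgroup.mem_normalizer_iff.1 g.2 ((g : G)⁻¹ * x * g)).2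
          apply this
          have h2 : (g : G) * ((g : G)⁻¹ * x * g) * (g : G)⁻¹ = x := by group
          rw [h2]
          exact x.2
        have h2 := hb ⟨_, h1⟩
        have h3 : ((g : G)⁻¹ * x * g) • b = b := h2
        show (x : G) • ((g : G) • b) = (g : G) • b
        rw [← inv_smul_eq_iff, smul_smul, smul_smul]
        exact h3 }
  have hs : ∀ i, s i ∈ fixedPoints P Ω := by
    intro i x
    exact (mem_stab_emb s x).1 (hP x.2) i
  let s' : Fin k ↪ F := ⟨fun i => ⟨s i, hs i⟩, fun i j hij => s.injective (congrArg Subtype.val hij)⟩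
  have hN : IsMultiplyPretransitive N F k := by
    apply of_exists_map
    intro a b
    let a' : Fin k ↪ Ω := a.trans (Function.Embedding.subtype _)
    let b' : Fin k ↪ Ω := b.trans (Function.Embedding.subtype _)
    have ha : P ≤ stabilizer G a' := by
      intro x hx
      rw [mem_stab_emb]
      intro i
      exact (a i).2 ⟨x, hx⟩
    have hb : P ≤ stabilizer G b' := by
      intro x hx
      rw [mem_stab_emb]
      intro i
      exact (b i).2 ⟨x, hx⟩
    obtain ⟨g, hg, hgab⟩ := Cfsg.Agent.S4219.jordan P s hP hcard a' b' ha hb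
    refine ⟨⟨g, hg⟩, fun i => ?_⟩
    apply Subtype.ext
    have := congrArg (fun t : Fin k ↪ Ω => t i) hgab
    exact this
  have h1 := card_eq_descFactorial hN s'
  have h2 : Nat.card P ∣ Nat.card (stabilizer N s') := by
    have hle : (P.subgroupOf N) ≤ stabilizer N s' := by
      intro x hx
      rw [mem_stab_emb]
      intro i
      apply Subtype.ext
      rw [Subgroup.mem_subgroupOf] at hx
      exact hs i ⟨x, hx⟩
    have h3 := Subgroup.card_dvd_of_le hle
    have h4 : Nat.card (P.subgroupOf N) = Nat.card P :=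
      Nat.card_congr (Subgroup.subgroupOfEquivOfLe Subgroup.le_normalizer).toEquiv
    rwa [h4] at h3
  have h3 : Nat.card N ∣ Nat.card G := Subgroup.card_subgroup_dvd_card N
  rw [h1] at h3
  exact (Nat.mul_dvd_mul_left _ h2).trans h3

/-- If every `5`-tuple can be reordered into the orbit of `t₀`, then the group is `5`-homogeneous,
hence `5`-transitive if `n ≥ 10` (Livingstone–Wagner). -/
theorem five_of_reorder [Fintype Ω] [DecidableEq Ω] (hn : 10 ≤ Fintype.card Ω)
    (t₀ : Fin 5 ↪ Ω)
    (h : ∀ t : Fin 5 ↪ Ω, ∃ (σ : Equiv.Perm (Fin 5)) (g : G), ∀ i, g • t (σ i) = t₀ i) :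
    IsMultiplyPretransitive G Ω 5 := by
  classical
  let H : Subgroup (Equiv.Perm Ω) := (toPermHom G Ω).range
  have key : ∀ A : Finset Ω, A.card = 5 → ∃ g : G, A.map (toPermHom G Ω g).toEmbedding =
      Finset.univ.map t₀ := by
    intro A hA
    let t : Fin 5 ↪ Ω := (Finset.equivFinOfCardEq hA).symm.toEmbedding.trans
      (Function.Embedding.subtype _)
    obtain ⟨σ, g, hg⟩ := h t
    refine ⟨g, ?_⟩
    have hAt : A = Finset.univ.map t := by
      ext x
      simp only [Finset.mem_map, Finset.mem_univ, true_and]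
      constructor
      · intro hx
        refine ⟨Finset.equivFinOfCardEq hA ⟨x, hx⟩, ?_⟩
        simp [t]
      · rintro ⟨i, rfl⟩
        exact ((Finset.equivFinOfCardEq hA).symm i).2
    rw [hAt]
    ext x
    simp only [Finset.mem_map, Finset.mem_univ, true_and, exists_exists_eq_and]
    constructor
    · rintro ⟨i, hi⟩
      refine ⟨σ.symm i, ?_⟩
      rw [← hg, Equiv.apply_symm_apply]
      exact hi
    · rintro ⟨i, hi⟩
      refine ⟨σ i, ?_⟩
      rw [← hi, ← hg]
      rfl
  have hA5 : (Finset.univ.map t₀).card = 5 := by simp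
  let A₀ : Set.powersetCard Ω 5 := ⟨Finset.univ.map t₀, hA5⟩
  have hh : IsPretransitive H (Set.powersetCard Ω 5) := by
    have h0 : ∀ A : Set.powersetCard Ω 5, ∃ x : H, x • A = A₀ := by
      intro A
      obtain ⟨g, hg⟩ := key A.1 A.2
      have hmem : toPermHom G Ω g ∈ H := MonoidHom.mem_range.2 ⟨g, rfl⟩
      obtain ⟨x, hx⟩ : ∃ x : H, (x : Equiv.Perm Ω) = toPermHom G Ω g := ⟨⟨_, hmem⟩, rfl⟩
      refine ⟨x, ?_⟩
      apply Subtype.ext
      show Finset.image (fun y => (x : Equiv.Perm Ω) y) A.1 = Finset.univ.map t₀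
      rw [← hg, ← hx]
      ext y
      simp only [Finset.mem_image, Finset.mem_map]
      rfl
    refine ⟨fun A B => ?_⟩
    obtain ⟨x, hx⟩ := h0 A
    obtain ⟨y, hy⟩ := h0 B
    exact ⟨y⁻¹ * x, by rw [mul_smul, hx, ← hy, inv_smul_smul]⟩
  have h5 := Cfsg.Agent.S0748.result H (k := 5) le_rfl (by omega) hh
  apply of_exists_map
  intro s t
  obtain ⟨σ, hσ⟩ := exists_map h5 s t
  obtain ⟨g, hg⟩ := σ.2
  refine ⟨g, fun i => ?_⟩
  have h2 := hσ i
  show (toPermHom G Ω g) (s i) = t i
  rw [hg]
  exact h2

end basic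

end Cfsg.Agent.H392.MultTrans
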