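import Cfsg.Agent.H386.HalfTwo.Count
import Cfsg.Agent.H488.ThreeSp
import Cfsg.Agent.H57.TTOut
import Cfsg.Agent.S0814

/-!
# `(2+1/2)`-transitive groups (S3576): the row `Sp_{2k}(2)` (helper392, task 1262)
-/

set_option autoImplicit false

namespace Cfsg.Agent.H392.HalfSp

open MulAction Cfsg.Agent.H384.TwoTrans Cfsg.Agent.H386.HalfTwo
open Cfsg.Agent.H488.ThreeHalf hiding Half

universe u v

variable {G : Type u} {Ω : Type v} [Group G] [MulAction G Ω] {T : Subgroup G} {m : ℕ}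

/-- `G = T` if `Out T = 1` -/
theorem top_of (A : AS G Ω T) {X : Type*} [Group X] [Finite X] (e : T ≃* X)
    (h : Nat.card (MulAut X) = Nat.card X) : T = ⊤ := by
  have := A.normal
  have := A.finG
  have h1 : Nat.card G ∣ Nat.card (MulAut T) :=
    Subgroup.card_dvd_of_injective _ (Cfsg.Agent.H57.TTOut.conj_injective A.cent)
  rw [Nat.card_congr (MulAut.congr e).toEquiv, h, ← Nat.card_congr e.toEquiv] at h1
  exact Subgroup.eq_top_of_le_card T (Nat.le_of_dvd Nat.card_pos h1)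

/-- **The row `Sp_{2k}(2)`.** -/
theorem not_sp (A : AS G Ω T) (H : Half G Ω m) {F : Type} [Field F] [Fintype F] {k : ℕ}
    (hF : Fintype.card F = 2) (hk : 3 ≤ k) (e : Nonempty (T ≃* Cfsg.PSp k F))
    (hn : Nat.card Ω = 2 ^ (k - 1) * (2 ^ k + 1) ∨ Nat.card Ω = 2 ^ (k - 1) * (2 ^ k - 1)) : False := by
  obtain ⟨e⟩ := e
  have := A.finG
  have := A.finΩ
  have := A.faithful
  have : Finite (Matrix.symplecticGroup (Fin k) F) := Subtype.finite
  have : Finite (Cfsg.PSp k F) := inferInstance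
  have hT : T = ⊤ := by
    refine top_of A e ?_
    have : Fact (Nat.Prime 2) := ⟨Nat.prime_two⟩
    have h1 := Cfsg.Agent.S0814.result (F := F) 2 1 le_rfl (by rw [hF]; rfl) k (by omega) (by omega)
    rw [if_neg (by omega)] at h1
    rw [h1]
    norm_num
  obtain ⟨z, hz⟩ : ∃ z, z + 1 = 2 ^ (k - 1) := ⟨2 ^ (k - 1) - 1, by
    have := Nat.one_le_two_pow (n := k - 1)
    omega⟩
  have hz2 : 2 ^ k = 2 * (z + 1) := by
    rw [hz, mul_comm, ← pow_succ]; congr 1; omega
  have hz3 : 3 ≤ z := by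
    have : 2 ^ 2 ≤ 2 ^ (k - 1) := Nat.pow_le_pow_right (by norm_num) (by omega)
    omega
  have hdeg : Deg (Nat.card Ω) z := by
    rw [hz2, ← hz] at hn
    rcases hn with hn | hn
    · left; rw [hn]; ring
    · right; rw [hn]; congr 1
  have hn3 : 3 ≤ Nat.card Ω := by
    rcases hdeg with h | h
    · rw [h]; nlinarith
    · rw [h]; nlinarith
  have h2G := A.two
  rw [MulAction.is_two_pretransitive_iff] at h2G
  have h2 : ∀ a b c d : Ω, a ≠ b → c ≠ d → ∃ g : T, g • a = c ∧ g • b = d := by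
    intro a b c d hab hcd
    obtain ⟨g, hg1, hg2⟩ := h2G hab hcd
    exact ⟨⟨g, by rw [hT]; exact Subgroup.mem_top g⟩, hg1, hg2⟩
  have hnt : Nontrivial Ω := Finite.one_lt_card_iff_nontrivial.1 (by omega)
  obtain ⟨a, b, hab⟩ := exists_pair_ne Ω
  have hTT : TT T a b = GG G a b := by
    ext g
    rw [mem_TT, mem_GG, hT]
    simp
  have hl : ∀ c, c ≠ a ∧ c ≠ b → Nat.card (orbit (TT T a b) c) = m := by
    intro c hc
    rw [hTT]
    exact H.orb a b c hab hc.1 hc.2
  set C : Set T := e ⁻¹' Cl k F with hCdef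
  have hC : ∀ t ∈ C, ∀ g : T, g * t * g⁻¹ ∈ C := by
    intro t ht g
    show e (g * t * g⁻¹) ∈ Cl k F
    rw [map_mul, map_mul, map_inv]
    exact Cl_conj _ ht _
  have hCn : C.ncard = (2 * z + 1) * (2 * z + 3) := by
    have h1 : C.ncard = (Cl k F).ncard := by
      have : C = e.symm '' Cl k F := by
        ext x
        constructor
        · intro hx
          exact ⟨e x, hx, e.symm_apply_apply x⟩
        · rintro ⟨y, hy, rfl⟩
          show e (e.symm y) ∈ Cl k F
          rwa [e.apply_symm_apply]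
      rw [this, Set.ncard_image_of_injective _ e.symm.injective]
    rw [h1, ncard_Cl hF (by omega)]
    have e' : 2 ^ (2 * k) = 4 * (z + 1) ^ 2 := by
      rw [mul_comm, pow_mul, hz2]; ring
    rw [e']
    have : 4 * (z + 1) ^ 2 = (2 * z + 1) * (2 * z + 3) + 1 := by ring
    omega
  obtain ⟨t₀, ht₀⟩ : C.Nonempty := by
    rw [← Set.ncard_pos, hCn]
    positivity
  have hφ : ∀ t ∈ C, {x : Ω | t • x = x}.ncard = {x : Ω | t₀ • x = x}.ncard := by
    intro t ht
    obtain ⟨g, hg⟩ := Cl_trans hF (e t₀) (e t) ht₀ ht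
    have h4 : t = e.symm g * t₀ * (e.symm g)⁻¹ := by
      apply e.injective
      rw [map_mul, map_mul, map_inv, e.apply_symm_apply, hg]
    rw [h4]
    exact ncard_fix_conj _ _
  set φ := {x : Ω | t₀ • x = x}.ncard with hφdef
  have hφn : φ < Nat.card Ω := by
    rw [← Set.ncard_univ]
    refine Set.ncard_lt_ncard ?_ Set.finite_univ
    rw [Set.ssubset_univ_iff]
    intro h4
    have h5 : t₀ = 1 := by
      apply FaithfulSMul.eq_of_smul_eq_smul (α := Ω)
      intro x
      rw [one_smul]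
      have : x ∈ {x : Ω | t₀ • x = x} := by rw [h4]; trivial
      exact this
    have h6 : C ⊆ {1} := by
      intro t ht
      obtain ⟨g, hg⟩ := Cl_trans hF (e t₀) (e t) ht₀ ht
      rw [h5, map_one, mul_one, mul_inv_cancel] at hg
      exact e.injective (by rw [← hg, map_one])
    have h7 := Set.ncard_le_ncard h6
    rw [Set.ncard_singleton, hCn] at h7
    nlinarith
  have hcount := class_count (X := T) (Ω := Ω) h2 C hC hφ hab
  rw [hCn] at hcount
  have hfix := num_fix hdeg hz3 hφn hcount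
  have hdvd := dvd_mul_fix A C hC hφ hab hl
  have hl2 := num_len hdeg hk hz H.dvd hdvd hfix
  have h9 : 3 ∣ Nat.card (GG G a b) := by
    refine num_order hdeg hk hz ?_
    have hcard : Nat.card G = Nat.card T := by rw [hT]; exact (Subgroup.card_top).symm
    rw [← Cfsg.Agent.H386.HalfTwo.card_eq A.two hab, hcard, Nat.card_congr e.toEquiv, ← hF,
      ← Cfsg.Agent.OddHalf.Orders.card_psp (F := F) k (by omega)]
    rw [hF]
    have : Cfsg.Agent.OddHalf.Orders.spDen 2 = 1 := rfl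
    rw [this, one_mul]
  have h10 := H.prime_le hab Nat.prime_three h9
  omega

/-- **Task 1262.** -/
theorem sp (A : AS G Ω T) (H : Half G Ω m) {F : Type} [Field F] [Fintype F] {k : ℕ}
    (hF : Fintype.card F = 2) (hk : 3 ≤ k) (e : Nonempty (T ≃* Cfsg.PSp k F))
    (hn : Nat.card Ω = 2 ^ (k - 1) * (2 ^ k + 1) ∨ Nat.card Ω = 2 ^ (k - 1) * (2 ^ k - 1)) :
    m = 1 ∨ IsMultiplyPretransitive G Ω 3 :=
  (not_sp A H hF hk e hn).elim

end Cfsg.Agent.H392.HalfSp
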