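import Cfsg.Agent.H392.MultTrans
import Cfsg.Agent.S0711

/-!
# `(4+1/2)`-transitive groups of degrees 12 and 24
-/

set_option autoImplicit false

open MulAction

namespace Cfsg.Agent.H392.HalfTrans

open Cfsg.Agent.H392.MultTrans

variable {G Ω : Type*} [Group G] [MulAction G Ω]

/-- The 5-tuple `(s, e)`. -/
def snocE {k : ℕ} (s : Fin k ↪ Ω) (e : Ω) (he : e ∉ Set.range s) : Fin (k + 1) ↪ Ω :=
  ⟨Fin.snoc (α := fun _ => Ω) s e, by
    intro i j hij
    induction i using Fin.lastCases with
    | last =>
      induction j using Fin.lastCases with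
      | last => rfl
      | cast j =>
        rw [Fin.snoc_last, Fin.snoc_castSucc] at hij
        exact absurd ⟨j, hij.symm⟩ he
    | cast i =>
      induction j using Fin.lastCases with
      | last =>
        rw [Fin.snoc_last, Fin.snoc_castSucc] at hij
        exact absurd ⟨i, hij⟩ he
      | cast j =>
        rw [Fin.snoc_castSucc, Fin.snoc_castSucc] at hij
        rw [s.injective hij]⟩

theorem snocE_last {k : ℕ} (s : Fin k ↪ Ω) (e : Ω) (he : e ∉ Set.range s) :
    snocE s e he (Fin.last k) = e := Fin.snoc_last (α := fun _ => Ω) _ _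

theorem snocE_castSucc {k : ℕ} (s : Fin k ↪ Ω) (e : Ω) (he : e ∉ Set.range s) (i : Fin k) :
    snocE s e he i.castSucc = s i := Fin.snoc_castSucc (α := fun _ => Ω) _ _ _

/-- A group of order prime to... : a `p`-subgroup `P` of `G_s` fixes a point in each `G_s`-orbit of
length prime to `p`. -/
theorem exists_fixed_in_orbit [Finite Ω] {p : ℕ} [Fact p.Prime] (H P : Subgroup G) (hP : P ≤ H)
    (hp : IsPGroup p P) (b : Ω) (hb : ¬ p ∣ Nat.card (orbit H b)) :
    ∃ c ∈ orbit H b, ∀ x ∈ P, x • c = c := by
  let O : SubMulAction P Ω :=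
    { carrier := orbit H b
      smul_mem' := by
        rintro g c ⟨h, rfl⟩
        exact ⟨⟨g, hP g.2⟩ * h, by simp only [mul_smul]; rfl⟩ }
  have h1 : ¬ p ∣ Nat.card O := hb
  obtain ⟨c, hc⟩ := hp.nonempty_fixed_point_of_prime_not_dvd_card O h1
  refine ⟨c, c.2, fun x hx => ?_⟩
  exact congrArg Subtype.val (hc ⟨x, hx⟩)

theorem toPermHom_ne_one [FaithfulSMul G Ω] {g : G} (hg : g ≠ 1) : toPermHom G Ω g ≠ 1 := by
  intro h
  apply hg
  apply FaithfulSMul.eq_of_smul_eq_smul (α := Ω)
  intro b
  rw [one_smul]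
  exact congrArg (fun τ : Equiv.Perm Ω => τ b) h

/-- No non-trivial element of a `4`-transitive group not containing the alternating group moves
fewer than six points. -/
theorem support_ge_six [Fintype Ω] [DecidableEq Ω] [FaithfulSMul G Ω]
    (h : IsMultiplyPretransitive G Ω 4) (hn : 4 ≤ Fintype.card Ω)
    (hA : ¬ alternatingGroup Ω ≤ (toPermHom G Ω).range) {g : G} (hg : g ≠ 1) :
    6 ≤ (toPermHom G Ω g).support.card := by
  by_contra hlt
  apply hA
  have h4 : IsMultiplyPretransitive (toPermHom G Ω).range Ω 4 := by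
    apply of_exists_map
    intro s t
    obtain ⟨g, hg⟩ := exists_map h s t
    exact ⟨⟨toPermHom G Ω g, g, rfl⟩, hg⟩
  exact (Cfsg.Agent.S0711.result (toPermHom G Ω).range (k := 4) (by norm_num) hn h4
    (toPermHom G Ω g) ⟨g, rfl⟩ (toPermHom_ne_one hg) (by omega)).2

theorem not_alt_le [Finite G] [Fintype Ω] [DecidableEq Ω]
    (h : Nat.card G * 2 < (Fintype.card Ω).factorial) (hn : 2 ≤ Fintype.card Ω) :
    ¬ alternatingGroup Ω ≤ (toPermHom G Ω).range := by
  intro hle
  have : Nontrivial Ω := by
    rw [← Fintype.one_lt_card_iff_nontrivial]; omega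
  have h1 := Subgroup.card_dvd_of_le hle
  have h2 : Nat.card (toPermHom G Ω).range ∣ Nat.card G := Subgroup.card_range_dvd _
  have h3 := Nat.le_of_dvd Nat.card_pos (h1.trans h2)
  have h4 := two_mul_nat_card_alternatingGroup (α := Ω)
  rw [Nat.card_eq_fintype_card (α := Equiv.Perm Ω), Fintype.card_perm] at h4
  omega

/-- The degree 24 case. -/
theorem deg24 [Finite G] [Fintype Ω] [DecidableEq Ω] [FaithfulSMul G Ω]
    (hn : Fintype.card Ω = 24) (hG : Nat.card G = 244823040)
    (h4 : IsMultiplyPretransitive G Ω 4) (s : Fin 4 ↪ Ω) {r : ℕ}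
    (hr : ∀ b, b ∉ Set.range s → Nat.card (orbit (stabilizer G s) b) = r) :
    IsMultiplyPretransitive G Ω 5 := by
  classical
  have hnc : Nat.card Ω = 24 := by rw [Nat.card_eq_fintype_card, hn]
  have hGs : Nat.card (stabilizer G s) = 960 := by
    have h1 := card_eq_descFactorial h4 s
    rw [hG, hnc] at h1
    have h2 : Nat.descFactorial 24 4 = 255024 := by decide
    rw [h2] at h1
    omega
  have hr20 : r ∣ 20 := by
    have h1 := orbit_dvd s hr
    rwa [hnc] at h1
  have h3r : ¬ 3 ∣ r := fun h => by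
    have := h.trans hr20
    omega
  have : Fact (Nat.Prime 3) := ⟨by norm_num⟩
  obtain ⟨P⟩ : Nonempty (Sylow 3 (stabilizer G s)) := inferInstance
  let R : Subgroup G := (P : Subgroup (stabilizer G s)).map (stabilizer G s).subtype
  have hRle : R ≤ stabilizer G s := by
    rintro x ⟨y, -, rfl⟩
    exact y.2
  have hRc0 : Nat.card R = Nat.card P :=
    Nat.card_congr (Subgroup.equivMapOfInjective _ _ (stabilizer G s).subtype_injective).symm.toEquiv
  have hRc : Nat.card R = 3 ^ (Nat.card (stabilizer G s)).factorization 3 := by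
    rw [hRc0, Sylow.card_eq_multiplicity]
  have h960 : (960 : ℕ).factorization 3 = 1 := by
    have h1 : (960 : ℕ) = 3 ^ 1 * 320 := by norm_num
    rw [h1, Nat.factorization_mul (by norm_num) (by norm_num), Finsupp.add_apply,
      Nat.Prime.factorization_pow Nat.prime_three, Finsupp.single_eq_same,
      Nat.factorization_eq_zero_of_not_dvd (by norm_num)]
  have hR3 : Nat.card R = 3 := by
    rw [hRc, hGs, h960, pow_one]
  have hRp : IsPGroup 3 R := IsPGroup.of_card (n := 1) (by rw [hR3, pow_one])
  have hW := witt_card h4 s R hRle hRc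
  set f := Nat.card (fixedPoints R Ω) with hf
  rw [hR3, hG] at hW
  have hf0 : f ≡ 0 [MOD 3] := by
    have h1 := hRp.card_modEq_card_fixedPoints Ω
    rw [hnc] at h1
    exact (h1.symm.trans (by decide))
  have hfle : f ≤ 24 := by
    rw [← hnc]
    exact Nat.card_le_card_of_injective _ (Subtype.val_injective)
  have hf4 : 4 ≤ f := by
    have h1 : Nat.card (Fin 4) ≤ f := by
      refine Nat.card_le_card_of_injective (fun i => (⟨s i, fun x => ?_⟩ : fixedPoints R Ω)) ?_
      · exact (mem_stab_emb s x).1 (hRle x.2) i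
      · intro i j hij
        exact s.injective (congrArg Subtype.val hij)
    simpa using h1
  have hf24 : f ≠ 24 := by
    intro h
    have h1 : fixedPoints R Ω = Set.univ := by
      apply Set.eq_of_subset_of_ncard_le (Set.subset_univ _)
      rw [Set.ncard_univ, hnc, ← Nat.card_coe_set_eq, ← hf, h]
    have h2 : R = ⊥ := by
      rw [eq_bot_iff]
      intro x hx
      rw [Subgroup.mem_bot]
      apply FaithfulSMul.eq_of_smul_eq_smul (α := Ω)
      intro b
      rw [one_smul]
      have : b ∈ fixedPoints R Ω := by rw [h1]; trivial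
      exact this ⟨x, hx⟩
    rw [h2, Subgroup.card_bot] at hR3
    omega
  have hf6 : f = 6 := by
    clear_value f
    rw [Nat.ModEq, Nat.zero_mod] at hf0
    have hc : f = 6 ∨ f = 9 ∨ f = 12 ∨ f = 15 ∨ f = 18 ∨ f = 21 := by omega
    rcases hc with h | h | h | h | h | h
    · exact h
    all_goals
      exfalso
      rw [h] at hW
      revert hW
      decide
  -- the two further fixed points
  have hsF : Set.range s ⊆ fixedPoints R Ω := by
    rintro _ ⟨i, rfl⟩ x
    exact (mem_stab_emb s x).1 (hRle x.2) i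
  have hdiff : (fixedPoints R Ω \ Set.range s).ncard = 2 := by
    rw [Set.ncard_sdiff hsF (Set.toFinite _), ← Nat.card_coe_set_eq, ← hf, hf6, ← Nat.card_coe_set_eq,
      Nat.card_range_of_injective s.injective]
    simp
  obtain ⟨e, e', hee, hdF⟩ := Set.ncard_eq_two.1 hdiff
  have heF : e ∈ fixedPoints R Ω ∧ e ∉ Set.range s := by
    have : e ∈ fixedPoints R Ω \ Set.range s := by rw [hdF]; exact Or.inl rfl
    exact this
  have heF' : e' ∈ fixedPoints R Ω ∧ e' ∉ Set.range s := by
    have : e' ∈ fixedPoints R Ω \ Set.range s := by rw [hdF]; exact Or.inr rfl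
    exact this
  have hmemF : ∀ x, x ∈ fixedPoints R Ω → x ∈ Set.range s ∨ x = e ∨ x = e' := by
    intro x hx
    by_cases h : x ∈ Set.range s
    · exact Or.inl h
    · right
      have : x ∈ fixedPoints R Ω \ Set.range s := ⟨hx, h⟩
      rw [hdF] at this
      exact this
  -- every orbit contains `e` or `e'`
  have horb : ∀ b, b ∉ Set.range s → b ∈ orbit (stabilizer G s) e ∨ b ∈ orbit (stabilizer G s) e' := by
    intro b hb
    have h1 : ¬ 3 ∣ Nat.card (orbit (stabilizer G s) b) := by rw [hr b hb]; exact h3r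
    obtain ⟨c, hc, hcR⟩ := exists_fixed_in_orbit (stabilizer G s) R hRle hRp b h1
    have hcs : c ∉ Set.range s := orbit_subset_compl s hb hc
    rcases hmemF c (fun x => hcR x x.2) with h | h | h
    · exact absurd h hcs
    · left
      rw [← h]
      exact (orbit_eq_iff.2 hc).symm ▸ mem_orbit_self b
    · right
      rw [← h]
      exact (orbit_eq_iff.2 hc).symm ▸ mem_orbit_self b
  -- an element of the normaliser of `R`
  let N := Subgroup.normalizer (R : Set G)
  have hNF : ∀ g ∈ N, ∀ x ∈ fixedPoints R Ω, g • x ∈ fixedPoints R Ω := by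
    intro g hg b hb x
    have h1 : g⁻¹ * x * g ∈ R := by
      have := (Subgroup.mem_normalizer_iff.1 hg (g⁻¹ * x * g)).2
      apply this
      have h2 : g * (g⁻¹ * x * g) * g⁻¹ = x := by group
      rw [h2]
      exact x.2
    have h2 := hb ⟨_, h1⟩
    have h3 : (g⁻¹ * x * g) • b = b := h2
    show (x : G) • (g • b) = g • b
    rw [← inv_smul_eq_iff, smul_smul, smul_smul]
    exact h3
  have : IsPretransitive G (Fin 4 ↪ Ω) := h4
  have hJ : ∀ a b : Fin 4 ↪ Ω, (∀ i, a i ∈ fixedPoints R Ω) → (∀ i, b i ∈ fixedPoints R Ω) →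
      ∃ g ∈ N, ∀ i, g • a i = b i := by
    intro a b ha hb
    have ha' : R ≤ stabilizer G a := fun x hx => (mem_stab_emb a x).2 fun i => ha i ⟨x, hx⟩
    have hb' : R ≤ stabilizer G b := fun x hx => (mem_stab_emb b x).2 fun i => hb i ⟨x, hx⟩
    obtain ⟨g, hg, hgab⟩ := Cfsg.Agent.S4219.jordan R s hRle hRc a b ha' hb'
    exact ⟨g, hg, fun i => congrArg (fun t : Fin 4 ↪ Ω => t i) hgab⟩
  have hsw : ∃ g : G, g • s 0 = s 1 ∧ g • s 1 = s 0 ∧ g • s 2 = s 2 ∧ g • s 3 = s 3 ∧ g • e' = e := by
    have h01 : s 0 ≠ s 1 := fun h => absurd (s.injective h) (by decide)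
    obtain ⟨g, hg, hgs⟩ := hJ s ((Equiv.swap (0 : Fin 4) 1).toEmbedding.trans s)
      (fun i => hsF ⟨i, rfl⟩) (fun i => hsF ⟨_, rfl⟩)
    have hg0 : g • s 0 = s 1 := hgs 0
    have hg1 : g • s 1 = s 0 := hgs 1
    have hg2 : g • s 2 = s 2 := hgs 2
    have hg3 : g • s 3 = s 3 := hgs 3
    have hgr : ∀ x, x ∉ Set.range s → g • x ∉ Set.range s := by
      rintro x hx ⟨i, hi⟩
      apply hx
      fin_cases i
      · exact ⟨1, smul_left_cancel g (by rw [hg1]; exact hi)⟩
      · exact ⟨0, smul_left_cancel g (by rw [hg0]; exact hi)⟩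
      · exact ⟨2, smul_left_cancel g (by rw [hg2]; exact hi)⟩
      · exact ⟨3, smul_left_cancel g (by rw [hg3]; exact hi)⟩
    rcases hmemF _ (hNF g hg e' heF'.1) with h | h | h
    · exact absurd h (hgr _ heF'.2)
    · exact ⟨g, hg0, hg1, hg2, hg3, h⟩
    · -- `g` fixes `e'`, hence `e`
      have hge : g • e = e := by
        rcases hmemF _ (hNF g hg e heF.1) with h' | h' | h'
        · exact absurd h' (hgr _ heF.2)
        · exact h'
        · exact absurd (smul_left_cancel g (h'.trans h.symm)) hee
      have he0 : ∀ i, e ≠ s i := fun i h => heF.2 ⟨i, h.symm⟩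
      have he0' : ∀ i, e' ≠ s i := fun i h => heF'.2 ⟨i, h.symm⟩
      let t : Fin 4 ↪ Ω := ⟨![e, e', s 0, s 1], by
        intro i j hij
        fin_cases i <;> fin_cases j <;>
          simp [hee, hee.symm, he0, he0', (he0 _).symm, (he0' _).symm, h01, h01.symm] at hij ⊢⟩
      obtain ⟨k, hk, hks⟩ := hJ s t (fun i => hsF ⟨i, rfl⟩) (by
        intro i
        fin_cases i
        · exact heF.1
        · exact heF'.1
        · exact hsF ⟨0, rfl⟩
        · exact hsF ⟨1, rfl⟩)
      have hk0 : k • s 0 = e := hks 0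
      have hk1 : k • s 1 = e' := hks 1
      have hk2 : k • s 2 = s 0 := hks 2
      have hk3 : k • s 3 = s 1 := hks 3
      have hkinv : k⁻¹ ∈ N := inv_mem hk
      have hfix : ∀ i, s i ≠ s 0 → s i ≠ s 1 → (k * g * k⁻¹) • s i = s i := by
        intro i hi0 hi1
        have hy : k⁻¹ • s i ∈ fixedPoints R Ω := hNF _ hkinv _ (hsF ⟨i, rfl⟩)
        have hgy : g • (k⁻¹ • s i) = k⁻¹ • s i := by
          rcases hmemF _ hy with ⟨j, hj⟩ | h' | h'
          · exfalso
            have hj' : k • s j = s i := by rw [hj, smul_inv_smul]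
            fin_cases j
            · exact he0 i (hk0.symm.trans hj')
            · exact he0' i (hk1.symm.trans hj')
            · exact hi0 (hj'.symm.trans hk2)
            · exact hi1 (hj'.symm.trans hk3)
          · rw [h', hge]
          · rw [h', h]
        rw [mul_smul, mul_smul, hgy, smul_inv_smul]
      refine ⟨g * (k * g * k⁻¹), ?_, ?_, ?_, ?_, ?_⟩
      · have : k⁻¹ • s 0 = s 2 := by rw [← hk2, inv_smul_smul]
        rw [mul_smul, mul_smul, mul_smul, this, hg2, hk2, hg0]
      · have : k⁻¹ • s 1 = s 3 := by rw [← hk3, inv_smul_smul]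
        rw [mul_smul, mul_smul, mul_smul, this, hg3, hk3, hg1]
      · rw [mul_smul, hfix 2 (fun h => absurd (s.injective h) (by decide))
          (fun h => absurd (s.injective h) (by decide)), hg2]
      · rw [mul_smul, hfix 3 (fun h => absurd (s.injective h) (by decide))
          (fun h => absurd (s.injective h) (by decide)), hg3]
      · have : k⁻¹ • e' = s 1 := by rw [← hk1, inv_smul_smul]
        rw [mul_smul, mul_smul, mul_smul, this, hg1, hk0, hge]
  obtain ⟨w, hw0, hw1, hw2, hw3, hwe⟩ := hsw
  apply five_of_reorder (by omega) (snocE s e heF.2)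
  intro t
  obtain ⟨g, hg⟩ := exists_map h4 (initE t) s
  have hb : g • t (Fin.last 4) ∉ Set.range s := by
    rintro ⟨i, hi⟩
    rw [← hg i] at hi
    exact last_notMem t ⟨i, smul_left_cancel g hi⟩
  have hgt : ∀ i : Fin 4, g • t i.castSucc = s i := fun i => by
    rw [← initE_apply]; exact hg i
  rcases horb _ hb with h | h
  · -- `t` is in the orbit of `(s, e)`
    obtain ⟨u, hu⟩ := h
    refine ⟨1, (u : G)⁻¹ * g, fun i => ?_⟩
    rw [mul_smul, inv_smul_eq_iff, Equiv.Perm.one_apply]
    induction i using Fin.lastCases with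
    | last =>
      rw [snocE_last]
      exact hu.symm
    | cast i =>
      rw [snocE_castSucc, hgt]
      exact ((mem_stab_emb s u).1 u.2 i).symm
  · obtain ⟨u, hu⟩ := h
    refine ⟨Equiv.swap 0 1, w * (u : G)⁻¹ * g, fun i => ?_⟩
    have hu' : (u : G)⁻¹ • (g • t (Fin.last 4)) = e' := by
      rw [inv_smul_eq_iff]; exact hu.symm
    have hui : ∀ i, (u : G)⁻¹ • s i = s i := fun i => by
      rw [inv_smul_eq_iff]; exact ((mem_stab_emb s u).1 u.2 i).symm
    rw [mul_smul, mul_smul]
    induction i using Fin.lastCases with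
    | last =>
      rw [snocE_last, show Equiv.swap (0 : Fin 5) 1 (Fin.last 4) = Fin.last 4 from by decide, hu', hwe]
    | cast i =>
      rw [snocE_castSucc]
      fin_cases i
      · show w • ((u : G)⁻¹ • (g • t (Fin.castSucc (1 : Fin 4)))) = s 0
        rw [hgt, hui, hw1]
      · show w • ((u : G)⁻¹ • (g • t (Fin.castSucc (0 : Fin 4)))) = s 1
        rw [hgt, hui, hw0]
      · show w • ((u : G)⁻¹ • (g • t (Fin.castSucc (2 : Fin 4)))) = s 2
        rw [hgt, hui, hw2]
      · show w • ((u : G)⁻¹ • (g • t (Fin.castSucc (3 : Fin 4)))) = s 3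
        rw [hgt, hui, hw3]

theorem perm_fin6 (i j : Fin 6) (h : i ≠ j) : ∃ τ : Equiv.Perm (Fin 6), τ 0 = i ∧ τ 1 = j := by
  have h2 : IsMultiplyPretransitive (Equiv.Perm (Fin 6)) (Fin 6) 2 :=
    Equiv.Perm.isMultiplyPretransitive _ 2
  have h01 : (0 : Fin 6) ≠ 1 := by decide
  rw [is_two_pretransitive_iff] at h2
  exact h2 h01 h

theorem deg12_caseB [Finite G] [Fintype Ω] [DecidableEq Ω]
    (hn : Fintype.card Ω = 12)
    (h2 : ∀ t : Fin 5 ↪ Ω, Nat.card (stabilizer G t) = 2)
    (h6 : ∀ g : G, g ≠ 1 → 6 ≤ (toPermHom G Ω g).support.card)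
    (hre : ∀ (t : Fin 5 ↪ Ω) (σ : Equiv.Perm (Fin 5)), ∃ g : G, ∀ i, g • t (σ i) = t i) : False := by
  classical
  have hnc : Nat.card Ω = 12 := by rw [Nat.card_eq_fintype_card, hn]
  obtain ⟨t₀⟩ : Nonempty (Fin 5 ↪ Ω) := by
    apply Function.Embedding.nonempty_of_card_le
    rw [Fintype.card_fin, hn]; norm_num
  have huniq : ∀ (t : Fin 5 ↪ Ω) (x y : G), x ∈ stabilizer G t → y ∈ stabilizer G t → x ≠ 1 →
      y ≠ 1 → x = y := by
    intro t x y hx hy hx1 hy1
    have h := h2 t
    rw [Nat.card_eq_two_iff] at h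
    obtain ⟨a, b, hab, huniv⟩ := h
    have hm : ∀ c : stabilizer G t, c = a ∨ c = b := by
      intro c
      have : c ∈ ({a, b} : Set (stabilizer G t)) := by rw [huniv]; trivial
      simpa using this
    have h1 := hm 1
    have hxx := hm ⟨x, hx⟩
    have hyy := hm ⟨y, hy⟩
    have hx1' : (⟨x, hx⟩ : stabilizer G t) ≠ 1 := fun h => hx1 (congrArg Subtype.val h)
    have hy1' : (⟨y, hy⟩ : stabilizer G t) ≠ 1 := fun h => hy1 (congrArg Subtype.val h)
    have : (⟨x, hx⟩ : stabilizer G t) = ⟨y, hy⟩ := by
      rcases h1 with h1 | h1 <;> rcases hxx with hxx | hxx <;> rcases hyy with hyy | hyy <;>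
        first
        | exact hxx.trans hyy.symm
        | exact absurd (hxx.trans h1.symm) hx1'
        | exact absurd (hyy.trans h1.symm) hy1'
    exact congrArg Subtype.val this
  obtain ⟨z, hz, hz1⟩ : ∃ z ∈ stabilizer G t₀, z ≠ 1 := by
    have h := h2 t₀
    have : stabilizer G t₀ ≠ ⊥ := by
      intro h'
      rw [h', Subgroup.card_bot] at h
      omega
    obtain ⟨z, hz⟩ := (Subgroup.ne_bot_iff_exists_ne_one).1 this
    exact ⟨z, z.2, fun h => hz (Subtype.ext h)⟩
  have hzz : z * z = 1 := by
    by_contra hne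
    have h1 := huniq t₀ (z * z) z (mul_mem hz hz) hz hne hz1
    apply hz1
    simpa using h1
  -- the fixed points of `z`
  let F : Set Ω := {x | z • x = x}
  have hsupp : (toPermHom G Ω z).support = F.toFinsetᶜ := by
    ext x
    rw [Equiv.Perm.mem_support, Finset.mem_compl, Set.mem_toFinset]
    rfl
  have hFle : F.ncard ≤ 6 := by
    have h1 := h6 z hz1
    rw [hsupp, Finset.card_compl, ← Set.ncard_eq_toFinset_card', hn] at h1
    omega
  have hFge : 5 ≤ F.ncard := by
    have h1 : Set.range t₀ ⊆ F := by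
      rintro _ ⟨i, rfl⟩
      exact (mem_stab_emb t₀ z).1 hz i
    have h2 := Set.ncard_le_ncard h1 (Set.toFinite _)
    rwa [← Nat.card_coe_set_eq, Nat.card_range_of_injective t₀.injective, Nat.card_eq_fintype_card,
      Fintype.card_fin] at h2
  have hFeven : F.ncard ≡ 0 [MOD 2] := by
    have : Fact (Nat.Prime 2) := ⟨Nat.prime_two⟩
    have hp : IsPGroup 2 (Subgroup.zpowers z) := by
      apply IsPGroup.of_card (n := 1)
      rw [Nat.card_zpowers, pow_one]
      exact orderOf_eq_prime (by rw [pow_two, hzz]) hz1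
    have h1 := hp.card_modEq_card_fixedPoints Ω
    have h3 : fixedPoints (Subgroup.zpowers z) Ω = F := by
      ext x
      constructor
      · intro hx
        exact hx ⟨z, Subgroup.mem_zpowers z⟩
      · rintro hx ⟨y, k, rfl⟩
        have : z ∈ stabilizer G x := hx
        exact (zpow_mem this k : z ^ k ∈ stabilizer G x)
    rw [h3, hnc, Nat.card_coe_set_eq] at h1
    exact h1.symm.trans (by decide)
  have hF6 : F.ncard = 6 := by
    rw [Nat.ModEq, Nat.zero_mod] at hFeven
    omega
  let C : Subgroup G := Subgroup.centralizer {z}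
  have hC : ∀ g ∈ C, g * z = z * g := by
    intro g hg
    exact Subgroup.mem_centralizer_singleton_iff.1 hg
  have hCF : ∀ g ∈ C, ∀ x, x ∈ F ↔ g • x ∈ F := by
    intro g hg x
    show z • x = x ↔ z • g • x = g • x
    rw [← mul_smul, ← hC g hg, mul_smul, smul_left_cancel_iff]
  let A : SubMulAction C Ω :=
    { carrier := F
      smul_mem' := fun g x hx => (hCF g g.2 x).1 hx }
  let B : SubMulAction C Ω :=
    { carrier := Fᶜ
      smul_mem' := fun g x hx h => hx ((hCF g g.2 x).2 h) }
  have hAc : Nat.card A = 6 := by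
    show Nat.card F = 6
    rw [Nat.card_coe_set_eq, hF6]
  have hBc : Nat.card B = 6 := by
    show Nat.card (Fᶜ : Set Ω) = 6
    rw [Nat.card_coe_set_eq]
    have := Set.ncard_add_ncard_compl F (Set.toFinite _) (Set.toFinite _)
    omega
  -- swaps
  have ψ : Fin 6 ≃ A := (Finite.equivFinOfCardEq hAc).symm
  have ψB : Fin 6 ≃ B := (Finite.equivFinOfCardEq hBc).symm
  have hswap : ∀ x y : A, x ≠ y → Equiv.swap x y ∈ (toPermHom C A).range := by
    intro x y hxy
    obtain ⟨τ, hτ0, hτ1⟩ := perm_fin6 (ψ.symm x) (ψ.symm y) (fun h => hxy (ψ.symm.injective h))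
    let φ : Fin 6 ≃ A := τ.trans ψ
    have hφ0 : φ 0 = x := by show ψ (τ 0) = x; rw [hτ0, Equiv.apply_symm_apply]
    have hφ1 : φ 1 = y := by show ψ (τ 1) = y; rw [hτ1, Equiv.apply_symm_apply]
    let t : Fin 5 ↪ Ω := (Fin.castSuccEmb.trans φ.toEmbedding).trans (Function.Embedding.subtype _)
    have ht : ∀ i : Fin 5, t i = (φ i.castSucc : Ω) := fun i => rfl
    have hzt : z ∈ stabilizer G t := by
      rw [mem_stab_emb]
      intro i
      exact (φ i.castSucc).2
    obtain ⟨g, hg⟩ := hre t (Equiv.swap 0 1)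
    have hgC : g ∈ C := by
      show g ∈ Subgroup.centralizer {z}
      rw [Subgroup.mem_centralizer_singleton_iff]
      have h1 : g * z * g⁻¹ ∈ stabilizer G t := by
        rw [mem_stab_emb]
        intro i
        have h3 : g⁻¹ • t i = t (Equiv.swap 0 1 i) := by rw [inv_smul_eq_iff, hg]
        rw [mul_smul, mul_smul, h3, (mem_stab_emb t z).1 hzt, hg]
      have h3 : g * z * g⁻¹ ≠ 1 := by
        intro h
        apply hz1
        have : z = g⁻¹ * (g * z * g⁻¹) * g := by group
        rw [this, h]; group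
      have h4 := huniq t _ z h1 hzt h3 hz1
      rw [mul_inv_eq_iff_eq_mul] at h4
      exact h4
    refine ⟨⟨g, hgC⟩, ?_⟩
    have hgi : ∀ i : Fin 5, (⟨g, hgC⟩ : C) • φ (Equiv.swap (0 : Fin 5) 1 i).castSucc = φ i.castSucc := by
      intro i
      apply Subtype.ext
      exact hg i
    have hg0 : (⟨g, hgC⟩ : C) • φ 0 = φ 1 := hgi 1
    have hg1 : (⟨g, hgC⟩ : C) • φ 1 = φ 0 := hgi 0
    have hg2 : (⟨g, hgC⟩ : C) • φ 2 = φ 2 := hgi 2
    have hg3 : (⟨g, hgC⟩ : C) • φ 3 = φ 3 := hgi 3
    have hg4 : (⟨g, hgC⟩ : C) • φ 4 = φ 4 := hgi 4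
    have hg5 : (⟨g, hgC⟩ : C) • φ 5 = φ 5 := by
      obtain ⟨j, hj⟩ := φ.surjective ((⟨g, hgC⟩ : C) • φ 5)
      rw [← hj]
      congr 1
      have hinj : ∀ a : Fin 6, (⟨g, hgC⟩ : C) • φ a = φ j → a = 5 := by
        intro a ha
        exact φ.injective (smul_left_cancel _ (ha.trans hj))
      fin_cases j
      · exact absurd (hinj 1 hg1) (by decide)
      · exact absurd (hinj 0 hg0) (by decide)
      · exact absurd (hinj 2 hg2) (by decide)
      · exact absurd (hinj 3 hg3) (by decide)
      · exact absurd (hinj 4 hg4) (by decide)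
      · rfl
    ext1 w
    obtain ⟨j, rfl⟩ := φ.surjective w
    rw [toPermHom_apply, toPerm_apply, ← hφ0, ← hφ1]
    fin_cases j
    · exact hg0.trans (Equiv.swap_apply_left _ _).symm
    · exact hg1.trans (Equiv.swap_apply_right _ _).symm
    · exact hg2.trans (Equiv.swap_apply_of_ne_of_ne (fun h => absurd (φ.injective h) (by decide))
        (fun h => absurd (φ.injective h) (by decide))).symm
    · exact hg3.trans (Equiv.swap_apply_of_ne_of_ne (fun h => absurd (φ.injective h) (by decide))
        (fun h => absurd (φ.injective h) (by decide))).symm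
    · exact hg4.trans (Equiv.swap_apply_of_ne_of_ne (fun h => absurd (φ.injective h) (by decide))
        (fun h => absurd (φ.injective h) (by decide))).symm
    · exact hg5.trans (Equiv.swap_apply_of_ne_of_ne (fun h => absurd (φ.injective h) (by decide))
        (fun h => absurd (φ.injective h) (by decide))).symm
  have hAtop : (toPermHom C A).range = ⊤ := by
    rw [eq_top_iff, ← Equiv.Perm.closure_isSwap, Subgroup.closure_le]
    rintro _ ⟨x, y, hxy, rfl⟩
    exact hswap x y hxy
  have hCcard : 1440 ≤ Nat.card C := by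
    have h1 := Subgroup.index_mul_card (toPermHom C A).ker
    rw [Subgroup.index_ker, hAtop, Subgroup.card_top] at h1
    have h3 : Nat.card (Equiv.Perm A) = 720 := by
      rw [Nat.card_congr (Equiv.permCongr ψ.symm), Nat.card_eq_fintype_card, Fintype.card_perm,
        Fintype.card_fin]
      rfl
    rw [h3] at h1
    have h4 : 2 ≤ Nat.card (toPermHom C A).ker := by
      have hzC : z ∈ C := Subgroup.mem_centralizer_singleton_iff.2 rfl
      have hzk : (⟨z, hzC⟩ : C) ∈ (toPermHom C A).ker := by
        rw [MonoidHom.mem_ker]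
        ext1 w
        apply Subtype.ext
        exact w.2
      by_contra hlt
      have h5 : Nat.card (toPermHom C A).ker = 1 := by
        have := Nat.card_pos (α := (toPermHom C A).ker)
        omega
      rw [Subgroup.card_eq_one] at h5
      rw [h5, Subgroup.mem_bot] at hzk
      exact hz1 (congrArg Subtype.val hzk)
    omega
  have hBtop : (toPermHom C B).range = ⊤ := by
    have h1 := Subgroup.index_mul_card (toPermHom C B).ker
    rw [Subgroup.index_ker] at h1
    have h3 : Nat.card (Equiv.Perm B) = 720 := by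
      rw [Nat.card_congr (Equiv.permCongr ψB.symm), Nat.card_eq_fintype_card, Fintype.card_perm,
        Fintype.card_fin]
      rfl
    let t : Fin 5 ↪ Ω := (Fin.castSuccEmb.trans ψB.toEmbedding).trans (Function.Embedding.subtype _)
    have h4 : Nat.card (toPermHom C B).ker ≤ 2 := by
      rw [← h2 t]
      refine Nat.card_le_card_of_injective (fun x : (toPermHom C B).ker => (⟨((x : C) : G), by
        rw [mem_stab_emb]
        intro i
        have hx := x.2
        rw [MonoidHom.mem_ker] at hx
        have := congrArg (fun τ : Equiv.Perm B => (τ (ψB i.castSucc) : Ω)) hx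
        exact this⟩ : stabilizer G t)) ?_
      intro x y hxy
      have h5 := congrArg (fun w : stabilizer G t => (w : G)) hxy
      exact Subtype.ext (Subtype.ext h5)
    apply Subgroup.eq_top_of_le_card
    rw [h3]
    by_contra hlt
    push Not at hlt
    have : Nat.card (toPermHom C B).range * Nat.card (toPermHom C B).ker ≤ 719 * 2 :=
      Nat.mul_le_mul (by omega) h4
    omega
  -- the contradiction
  let c := ψB 0
  have hzB : z • (c : Ω) ∈ Fᶜ := by
    intro h
    apply c.2
    show z • (c : Ω) = c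
    have : z • z • (c : Ω) = z • (c : Ω) := h
    exact smul_left_cancel z this
  let c' : B := ⟨z • (c : Ω), hzB⟩
  have hcc' : c' ≠ c := fun h => c.2 (congrArg Subtype.val h)
  obtain ⟨d, hdc, hdc'⟩ : ∃ d : B, d ≠ c ∧ d ≠ c' := by
    by_contra hne
    push Not at hne
    have h1 : ∀ d : B, d ∈ ({c, c'} : Set B) := by
      intro d
      by_cases h : d = c
      · exact Or.inl h
      · exact Or.inr (hne d h)
    have h3 : Nat.card B ≤ 2 := by
      have : (Set.univ : Set B) ⊆ {c, c'} := fun d _ => h1 d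
      have h4 := Set.ncard_le_ncard this (Set.toFinite _)
      rw [Set.ncard_univ] at h4
      have h5 := Set.ncard_insert_le c ({c'} : Set B)
      rw [Set.ncard_singleton] at h5
      exact h4.trans h5
    omega
  have hmem : Equiv.swap c' d ∈ (toPermHom C B).range := by rw [hBtop]; trivial
  obtain ⟨g, hg⟩ := hmem
  have hgc : g • c = c := by
    have := congrArg (fun τ : Equiv.Perm B => τ c) hg
    rw [toPermHom_apply] at this
    simp only [toPerm_apply] at this
    rw [this, Equiv.swap_apply_of_ne_of_ne hcc'.symm hdc.symm]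
  have hgc' : g • c' = d := by
    have := congrArg (fun τ : Equiv.Perm B => τ c') hg
    rw [toPermHom_apply] at this
    simp only [toPerm_apply] at this
    rw [this, Equiv.swap_apply_left]
  apply hdc'
  rw [← hgc']
  apply Subtype.ext
  show (g : G) • (z • (c : Ω)) = z • (c : Ω)
  rw [← mul_smul, hC g g.2, mul_smul]
  have : (g : G) • (c : Ω) = c := congrArg Subtype.val hgc
  rw [this]

/-- Orbit–stabiliser for the last entry of a tuple. -/
theorem card_stab_succ [Finite G] [Finite Ω] {k : ℕ} (t : Fin (k + 1) ↪ Ω) :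
    Nat.card (orbit (stabilizer G (initE t)) (t (Fin.last k))) * Nat.card (stabilizer G t) =
      Nat.card (stabilizer G (initE t)) := by
  have h1 := Subgroup.index_mul_card (stabilizer (stabilizer G (initE t)) (t (Fin.last k)))
  rw [MulAction.index_stabilizer, ← Nat.card_coe_set_eq] at h1
  rw [← h1]
  congr 1
  refine Nat.card_congr ⟨fun x => ⟨⟨x, ?_⟩, ?_⟩, fun x => ⟨(x : stabilizer G (initE t)), ?_⟩, fun x => rfl,
    fun x => rfl⟩
  · rw [mem_stab_emb]
    intro i
    exact (mem_stab_emb t x).1 x.2 i.castSucc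
  · exact (mem_stab_emb t x).1 x.2 (Fin.last k)
  · rw [mem_stab_emb]
    intro i
    induction i using Fin.lastCases with
    | last => exact x.2
    | cast i => exact (mem_stab_emb (initE t) _).1 x.1.2 i

theorem exists_ne_ne {α : Type*} [Finite α] (h : 2 < Nat.card α) (a b : α) :
    ∃ c, c ≠ a ∧ c ≠ b := by
  by_contra hne
  push Not at hne
  have : (Set.univ : Set α) ⊆ {a, b} := by
    intro d _
    by_cases h : d = a
    · exact Or.inl h
    · exact Or.inr (hne d h)
  have h4 := Set.ncard_le_ncard this (Set.toFinite _)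
  rw [Set.ncard_univ] at h4
  have h5 := Set.ncard_insert_le a ({b} : Set α)
  rw [Set.ncard_singleton] at h5
  omega

theorem eq_of_card_two {α : Type*} [Finite α] {S : Set α} (h : Nat.card S = 2) {a b c : α}
    (ha : a ∈ S) (hb : b ∈ S) (hc : c ∈ S) (hba : b ≠ a) (hca : c ≠ a) : b = c := by
  rw [Nat.card_coe_set_eq, Set.ncard_eq_two] at h
  obtain ⟨x, y, -, rfl⟩ := h
  simp only [Set.mem_insert_iff, Set.mem_singleton_iff] at ha hb hc
  rcases ha with rfl | rfl <;> rcases hb with rfl | rfl <;> rcases hc with rfl | rfl <;>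
    first
    | rfl
    | exact absurd rfl hba
    | exact absurd rfl hca

/-- The degree 12 case. -/
theorem deg12 [Finite G] [Fintype Ω] [DecidableEq Ω] [FaithfulSMul G Ω]
    (hn : Fintype.card Ω = 12) (hG : Nat.card G = 95040)
    (h4 : IsMultiplyPretransitive G Ω 4) {r : ℕ}
    (hr : ∀ (s : Fin 4 ↪ Ω) (b : Ω), b ∉ Set.range s → Nat.card (orbit (stabilizer G s) b) = r) :
    IsMultiplyPretransitive G Ω 5 := by
  classical
  have hnc : Nat.card Ω = 12 := by rw [Nat.card_eq_fintype_card, hn]
  obtain ⟨t₀⟩ : Nonempty (Fin 5 ↪ Ω) := by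
    apply Function.Embedding.nonempty_of_card_le
    rw [Fintype.card_fin, hn]; norm_num
  have hGs : ∀ s : Fin 4 ↪ Ω, Nat.card (stabilizer G s) = 8 := by
    intro s
    have h1 := card_eq_descFactorial h4 s
    rw [hG, hnc] at h1
    have h2 : Nat.descFactorial 12 4 = 11880 := by decide
    rw [h2] at h1
    omega
  have hr8 : r ∣ 8 := by
    have h1 := orbit_dvd (initE t₀) (hr (initE t₀))
    rwa [hnc] at h1
  have hrc : r = 1 ∨ r = 2 ∨ r = 4 ∨ r = 8 := by
    have : r ≤ 8 := Nat.le_of_dvd (by norm_num) hr8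
    interval_cases r <;> revert hr8 <;> decide
  have hst : ∀ t : Fin 5 ↪ Ω, r * Nat.card (stabilizer G t) = 8 := by
    intro t
    rw [← hGs (initE t), ← card_stab_succ t, hr (initE t) _ (last_notMem t)]
  have h6 : ∀ g : G, g ≠ 1 → 6 ≤ (toPermHom G Ω g).support.card := by
    intro g hg
    apply support_ge_six h4 (by omega) _ hg
    apply not_alt_le
    · rw [hG, hn]; decide
    · omega
  rcases hrc with h | h | h | h
  · exfalso
    subst h
    have h1 := stab_eq_bot_of_card_orbit_one (initE t₀) (hr (initE t₀))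
    have h2 := hGs (initE t₀)
    rw [h1, Subgroup.card_bot] at h2
    omega
  · exfalso
    subst h
    have hV : Nat.card (stabilizer G t₀) = 4 := by
      have := hst t₀
      omega
    set s := initE t₀ with hs
    set b := t₀ (Fin.last 4) with hb
    have hbs : b ∉ Set.range s := last_notMem t₀
    have hob : Nat.card (orbit (stabilizer G s) b) = 2 := hr s b hbs
    obtain ⟨b', hb'o, hb'b⟩ : ∃ b' ∈ orbit (stabilizer G s) b, b' ≠ b := by
      by_contra hne
      push Not at hne
      have h1 : orbit (stabilizer G s) b ⊆ {b} := fun x hx => hne x hx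
      have h2 := Set.ncard_le_ncard h1 (Set.toFinite _)
      rw [Set.ncard_singleton, ← Nat.card_coe_set_eq, hob] at h2
      omega
    have hb's : b' ∉ Set.range s := orbit_subset_compl s hbs hb'o
    have hVs : ∀ v ∈ stabilizer G t₀, v ∈ stabilizer G s := by
      intro v hv
      rw [mem_stab_emb]
      intro i
      exact (mem_stab_emb t₀ v).1 hv i.castSucc
    have hVb : ∀ v ∈ stabilizer G t₀, v • b = b := fun v hv => (mem_stab_emb t₀ v).1 hv _
    have hVb' : ∀ v ∈ stabilizer G t₀, v • b' = b' := by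
      intro v hv
      have h1 : v • b' ∈ orbit (stabilizer G s) b := by
        obtain ⟨u, rfl⟩ := hb'o
        exact ⟨⟨v, hVs v hv⟩ * u, by simp only [mul_smul]; rfl⟩
      have h2 : v • b' ≠ b := by
        intro h
        apply hb'b
        apply smul_left_cancel v
        rw [h, hVb v hv]
      exact eq_of_card_two hob (mem_orbit_self b) h1 hb'o h2 hb'b
    have hmove : ∀ v ∈ stabilizer G t₀, v ≠ 1 → ∀ c, c ∉ Set.range s → c ≠ b → c ≠ b' → v • c ≠ c := by
      intro v hv hv1 c hcs hcb hcb' hvc
      have h1 := h6 v hv1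
      have h2 : (toPermHom G Ω v).support ⊆ (insert c (insert b (insert b' (Finset.univ.map s))))ᶜ := by
        intro x hx
        rw [Equiv.Perm.mem_support] at hx
        rw [Finset.mem_compl]
        intro hx'
        simp only [Finset.mem_insert, Finset.mem_map, Finset.mem_univ, true_and] at hx'
        rcases hx' with rfl | rfl | rfl | ⟨i, rfl⟩
        · exact hx hvc
        · exact hx (hVb v hv)
        · exact hx (hVb' v hv)
        · exact hx ((mem_stab_emb s v).1 (hVs v hv) i)
      have h3 := Finset.card_le_card h2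
      rw [Finset.card_compl, Finset.card_insert_of_notMem, Finset.card_insert_of_notMem,
        Finset.card_insert_of_notMem, Finset.card_map, Finset.card_univ, Fintype.card_fin, hn] at h3
      · omega
      · simp only [Finset.mem_map, Finset.mem_univ, true_and]
        exact hb's
      · simp only [Finset.mem_insert, Finset.mem_map, Finset.mem_univ, true_and, not_or]
        exact ⟨hb'b.symm, hbs⟩
      · simp only [Finset.mem_insert, Finset.mem_map, Finset.mem_univ, true_and, not_or]
        exact ⟨hcb, hcb', hcs⟩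
    obtain ⟨v, hv1, -⟩ := exists_ne_ne (α := stabilizer G t₀) (by omega) 1 1
    obtain ⟨w, hw1, hwv⟩ := exists_ne_ne (α := stabilizer G t₀) (by omega) 1 v
    have hv1' : (v : G) ≠ 1 := fun h => hv1 (Subtype.ext h)
    have hw1' : (w : G) ≠ 1 := fun h => hw1 (Subtype.ext h)
    apply hwv
    apply Subtype.ext
    apply FaithfulSMul.eq_of_smul_eq_smul (α := Ω)
    intro c
    by_cases hcs : c ∈ Set.range s
    · obtain ⟨i, rfl⟩ := hcs
      rw [(mem_stab_emb s _).1 (hVs _ v.2) i, (mem_stab_emb s _).1 (hVs _ w.2) i]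
    · by_cases hcb : c = b
      · rw [hcb, hVb _ v.2, hVb _ w.2]
      · by_cases hcb' : c = b'
        · rw [hcb', hVb' _ v.2, hVb' _ w.2]
        · exact eq_of_card_two (hr s c hcs) (mem_orbit_self c) ⟨⟨w, hVs _ w.2⟩, rfl⟩
            ⟨⟨v, hVs _ v.2⟩, rfl⟩ (hmove _ w.2 hw1' c hcs hcb hcb') (hmove _ v.2 hv1' c hcs hcb hcb')
  · subst h
    have hV : ∀ t : Fin 5 ↪ Ω, Nat.card (stabilizer G t) = 2 := by
      intro t
      have := hst t
      omega
    by_cases hB : ∀ (t : Fin 5 ↪ Ω) (σ : Equiv.Perm (Fin 5)), ∃ g : G, ∀ i, g • t (σ i) = t i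
    · exact (deg12_caseB hn hV h6 hB).elim
    · push Not at hB
      obtain ⟨t, σ, hσ⟩ := hB
      apply five_of_reorder (by omega) t
      -- `y` is the reordered tuple, moved so that its first four entries agree with those of `t`
      obtain ⟨m, hm⟩ := exists_map h4 (initE (σ.toEmbedding.trans t)) (initE t)
      have hm' : ∀ i : Fin 4, m • t (σ i.castSucc) = t i.castSucc := hm
      set b := m • t (σ (Fin.last 4)) with hb
      have hbs : b ∉ Set.range (initE t) := by
        rintro ⟨i, hi⟩
        rw [hb, initE_apply, ← hm'] at hi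
        have := σ.injective (t.injective (smul_left_cancel m hi))
        exact absurd this (Fin.castSucc_lt_last i).ne
      have hbo : b ∉ orbit (stabilizer G (initE t)) (t (Fin.last 4)) := by
        rintro ⟨u, hu⟩
        obtain ⟨i, hi⟩ := hσ ((u : G)⁻¹ * m)
        apply hi
        rw [mul_smul, inv_smul_eq_iff]
        induction i using Fin.lastCases with
        | last => exact hu.symm
        | cast i =>
          rw [hm']
          exact ((mem_stab_emb _ _).1 u.2 i).symm
      have hdisj : Disjoint (orbit (stabilizer G (initE t)) (t (Fin.last 4)))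
          (orbit (stabilizer G (initE t)) b) := by
        rw [Set.disjoint_left]
        intro x hx hx'
        apply hbo
        rw [← orbit_eq_iff.2 hx, orbit_eq_iff.2 hx']
        exact mem_orbit_self b
      have hunion : ∀ c, c ∉ Set.range (initE t) → c ∈ orbit (stabilizer G (initE t)) (t (Fin.last 4)) ∨
          c ∈ orbit (stabilizer G (initE t)) b := by
        have h1 : orbit (stabilizer G (initE t)) (t (Fin.last 4)) ∪
            orbit (stabilizer G (initE t)) b = ((Set.range (initE t))ᶜ : Set Ω) := by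
          apply Set.eq_of_subset_of_ncard_le
          · exact Set.union_subset (orbit_subset_compl _ (last_notMem t)) (orbit_subset_compl _ hbs)
          · rw [← Nat.card_coe_set_eq, card_compl_range, hnc, Set.ncard_union_eq hdisj (Set.toFinite _)
              (Set.toFinite _), ← Nat.card_coe_set_eq, ← Nat.card_coe_set_eq,
              hr _ _ (last_notMem t), hr _ _ hbs]
          · exact Set.toFinite _
        intro c hc
        have : c ∈ ((Set.range (initE t))ᶜ : Set Ω) := hc
        rw [← h1] at this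
        exact this
      intro x
      obtain ⟨g, hg⟩ := exists_map h4 (initE x) (initE t)
      have hg' : ∀ i : Fin 4, g • x i.castSucc = t i.castSucc := hg
      have hx : g • x (Fin.last 4) ∉ Set.range (initE t) := by
        rintro ⟨i, hi⟩
        rw [← hg i] at hi
        exact last_notMem x ⟨i, smul_left_cancel g hi⟩
      rcases hunion _ hx with ⟨u, hu⟩ | ⟨u, hu⟩
      · refine ⟨1, (u : G)⁻¹ * g, fun i => ?_⟩
        rw [mul_smul, inv_smul_eq_iff, Equiv.Perm.one_apply]
        induction i using Fin.lastCases with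
        | last => exact hu.symm
        | cast i =>
          rw [hg']
          exact ((mem_stab_emb _ _).1 u.2 i).symm
      · refine ⟨σ⁻¹, m⁻¹ * (u : G)⁻¹ * g, fun i => ?_⟩
        have hk : ∀ j, g • x j = u • (m • t (σ j)) := by
          intro j
          induction j using Fin.lastCases with
          | last => exact hu.symm
          | cast j =>
            rw [hg', hm']
            exact ((mem_stab_emb _ _).1 u.2 j).symm
        rw [mul_smul, mul_smul, hk]
        show m⁻¹ • ((u : G)⁻¹ • ((u : G) • (m • t (σ (σ⁻¹ i))))) = t i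
        rw [inv_smul_smul, inv_smul_smul]
        exact congrArg t (σ.apply_symm_apply i)
  · subst h
    exact succ_of_orbit_full h4 (initE t₀) (last_notMem t₀) (by rw [hr _ _ (last_notMem t₀), hnc])

end Cfsg.Agent.H392.HalfTrans
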